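import Mathlib

/-!
# General vectors avoid the degeneracy locus

If a family of surjections `k^N → k^r` is parametrised by an `n`-dimensional domain and `m + n < r`,
then vectors whose image lies in the span of the images of `m` given ones are contained in a
hypersurface.
-/

set_option autoImplicit false

universe u

open MvPolynomial Cardinal

namespace Groth.PnSplit

variable {k : Type u} [Field k] {A : Type u} [CommRing A] [IsDomain A] [Algebra k A]

/-- Transcendence degree of a polynomial ring over a birational image of affine space. -/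
theorem trdeg_le_add {n : ℕ} (π : MvPolynomial (Fin n) k →ₐ[k] A)
    (hπ : ∀ a : A, ∃ p q, π q ≠ 0 ∧ a * π q = π p) {σ : Type} [Fintype σ] :
    Algebra.trdeg k (MvPolynomial σ A) ≤ (n + Fintype.card σ : ℕ) := by
  classical
  let s : Finset (MvPolynomial σ A) :=
    (Finset.univ.image fun i => MvPolynomial.C (π (MvPolynomial.X i))) ∪
      Finset.univ.image fun l : σ => (MvPolynomial.X l : MvPolynomial σ A)
  let S := Algebra.adjoin k (s : Set (MvPolynomial σ A))
  have hC : ∀ p, MvPolynomial.C (π p) ∈ S := fun p => by
    induction p using MvPolynomial.induction_on with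
    | C c =>
      rw [show MvPolynomial.C (π (MvPolynomial.C c)) = algebraMap k (MvPolynomial σ A) c by
        rw [IsScalarTower.algebraMap_apply k A (MvPolynomial σ A), ← π.commutes c]; rfl]
      exact S.algebraMap_mem c
    | add p q hp hq => rw [map_add, map_add]; exact add_mem hp hq
    | mul_X p i hp =>
      rw [map_mul, map_mul]
      exact mul_mem hp (Algebra.subset_adjoin (Finset.mem_coe.2 (Finset.mem_union_left _
        (Finset.mem_image.2 ⟨i, Finset.mem_univ _, rfl⟩))))
  haveI : FaithfulSMul S (MvPolynomial σ A) :=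
    (faithfulSMul_iff_algebraMap_injective _ _).2 Subtype.val_injective
  haveI : IsDomain S := inferInstance
  have halg : ∀ z : MvPolynomial σ A, IsAlgebraic S z := fun z => by
    induction z using MvPolynomial.induction_on with
    | C a =>
      obtain ⟨p, q, hq, hpq⟩ := hπ a
      refine ⟨Polynomial.C ⟨_, hC q⟩ * Polynomial.X - Polynomial.C ⟨_, hC p⟩, ?_, ?_⟩
      · intro h
        have h1 := congrArg (fun P => P.coeff 1) h
        simp only [Polynomial.coeff_sub, Polynomial.coeff_C_mul, Polynomial.coeff_X_one, mul_one,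
          Polynomial.coeff_C, one_ne_zero, if_false, sub_zero, Polynomial.coeff_zero] at h1
        exact hq (MvPolynomial.C_eq_zero.1 (congrArg Subtype.val h1))
      · rw [map_sub, map_mul, Polynomial.aeval_C, Polynomial.aeval_X, Polynomial.aeval_C]
        change MvPolynomial.C (π q) * MvPolynomial.C a - MvPolynomial.C (π p) = 0
        rw [← map_mul, mul_comm, hpq, sub_self]
    | add p q hp hq => exact hp.add hq
    | mul_X p i hp =>
      exact hp.mul (isAlgebraic_algebraMap (⟨MvPolynomial.X i, Algebra.subset_adjoin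
        (Finset.mem_coe.2 (Finset.mem_union_right _ (Finset.mem_image.2 ⟨i, Finset.mem_univ _, rfl⟩)))⟩ : S))
  haveI : Algebra.IsAlgebraic S (MvPolynomial σ A) := ⟨halg⟩
  refine (Algebra.IsAlgebraic.trdeg_le_cardinalMk (R := k) (s := (s : Set (MvPolynomial σ A)))).trans ?_
  refine (le_of_eq (Cardinal.mk_coe_finset (s := s))).trans ?_
  exact_mod_cast (Finset.card_union_le _ _).trans
    (add_le_add (Finset.card_image_le.trans (by simp)) (Finset.card_image_le.trans (by simp)))

/-- The bad vectors for one chart lie in a hypersurface. -/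
theorem exists_avoid {n r N m : ℕ} (π : MvPolynomial (Fin n) k →ₐ[k] A)
    (hπ : ∀ a : A, ∃ p q, π q ≠ 0 ∧ a * π q = π p)
    (M : (Fin N → A) →ₗ[A] (Fin r → A)) (hM : Function.Surjective M) (v : Fin m → Fin N → k)
    (hm : m + n < r) :
    ∃ f : MvPolynomial (Fin N) k, f ≠ 0 ∧ ∀ (χ : A →ₐ[k] k) (w : Fin N → k) (c : Fin m → k),
      (∀ i, χ (M (fun j => algebraMap k A (w j - ∑ l, c l * v l j)) i) = 0) → eval w f = 0 := by
  classical
  obtain ⟨σ, hσ⟩ := Module.projective_lifting_property M LinearMap.id hM
  let K := FractionRing A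
  let ι : A →+* K := algebraMap A K
  have hι : Function.Injective ι := IsFractionRing.injective A K
  let e : Fin N → (Fin r → K) := fun j i => ι (M (Pi.single j 1) i)
  let MK : (Fin N → K) →ₗ[K] (Fin r → K) := Fintype.linearCombination K e
  have hMK : ∀ d : Fin N → A, MK (fun j => ι (d j)) = fun i => ι (M d i) := fun d => by
    funext i
    conv_rhs => rw [pi_eq_sum_univ' d, map_sum]
    rw [Fintype.linearCombination_apply, Finset.sum_apply, Finset.sum_apply, map_sum]
    refine Finset.sum_congr rfl fun j _ => ?_
    simp [e, map_mul]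
  have hMKs : Function.Surjective MK := fun y => by
    rw [pi_eq_sum_univ' y]
    refine ⟨∑ i, y i • fun j => ι (σ (Pi.single i 1) j), ?_⟩
    rw [map_sum]
    refine Finset.sum_congr rfl fun i _ => ?_
    rw [map_smul, hMK, show M (σ (Pi.single i 1)) = Pi.single i 1 from LinearMap.congr_fun hσ _]
    congr 1
    funext i'
    rcases eq_or_ne i' i with rfl | h <;> simp [*]
  have hrank : Module.finrank K (LinearMap.ker MK) = N - r := by
    have h := MK.finrank_range_add_finrank_ker
    rw [LinearMap.range_eq_top.2 hMKs, finrank_top, Module.finrank_fin_fun, Module.finrank_fin_fun] at h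
    omega
  have hrN : r ≤ N := by
    have h := LinearMap.finrank_le_finrank_of_surjective (f := MK) hMKs
    rwa [Module.finrank_fin_fun, Module.finrank_fin_fun] at h
  let B := Module.finBasisOfFinrankEq K (LinearMap.ker MK) hrank
  obtain ⟨b, hb⟩ := IsLocalization.exist_integer_multiples_of_finset (nonZeroDivisors A)
    (Finset.univ.image fun p : Fin (N - r) × Fin N => ((B p.1 : Fin N → K)) p.2)
  choose a ha using fun p : Fin (N - r) × Fin N =>
    hb _ (Finset.mem_image.2 ⟨p, Finset.mem_univ _, rfl⟩)
  have hb0 : ι (b : A) ≠ 0 := fun h => nonZeroDivisors.coe_ne_zero b (hι (h.trans ι.map_zero.symm))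
  -- the parametrisation
  let T : MvPolynomial (Fin N) k →ₐ[k] MvPolynomial (Fin (N - r) ⊕ Fin m) A :=
    aeval fun j => (∑ l, MvPolynomial.X (Sum.inl l) * MvPolynomial.C (a (l, j))) +
      ∑ l, MvPolynomial.X (Sum.inr l) * MvPolynomial.C (algebraMap k A (v l j))
  obtain ⟨f, hTf, hf⟩ : ∃ f, T f = 0 ∧ f ≠ 0 := by
    by_contra! h
    have hinj : Function.Injective T := (injective_iff_map_eq_zero T).2 h
    have h1 := trdeg_le_of_injective T hinj
    rw [MvPolynomial.trdeg_of_isDomain] at h1
    have h2 := h1.trans (trdeg_le_add π hπ)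
    simp only [Cardinal.mk_fin, Cardinal.lift_natCast, Fintype.card_sum, Fintype.card_fin,
      Nat.cast_le] at h2
    omega
  refine ⟨f, hf, fun χ w c hc => ?_⟩
  let d₀ : Fin N → A := fun j => algebraMap k A (w j - ∑ l, c l * v l j)
  let v' := d₀ - σ (M d₀)
  have hMv' : M v' = 0 := by
    rw [map_sub, show M (σ (M d₀)) = M d₀ from LinearMap.congr_fun hσ _, sub_self]
  have hker : (fun j => ι (v' j)) ∈ LinearMap.ker MK := by
    rw [LinearMap.mem_ker, hMK, hMv']
    funext i
    exact ι.map_zero
  let α := B.repr ⟨_, hker⟩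
  have hsum : ∀ j, ι (v' j) = ∑ l, α l * (B l : Fin N → K) j := fun j => by
    have h := congrArg (fun z : LinearMap.ker MK => (LinearMap.ker MK).subtype z j) (B.sum_repr ⟨_, hker⟩)
    simp only [map_sum, map_smul, Finset.sum_apply, Pi.smul_apply, smul_eq_mul, Submodule.subtype_apply] at h
    exact h.symm
  -- evaluate at the parameters of `v'`
  let φ : MvPolynomial (Fin (N - r) ⊕ Fin m) A →+* K :=
    eval₂Hom ι (Sum.elim (fun l => α l / ι (b : A)) fun l => ι (algebraMap k A (c l)))
  let u : Fin N → A := fun j => v' j + algebraMap k A (∑ l, c l * v l j)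
  have hφ : ∀ p, φ (T p) = ι (aeval u p) := fun p => by
    induction p using MvPolynomial.induction_on with
    | C x => simp [T, φ, IsScalarTower.algebraMap_apply k A (MvPolynomial _ A)]
    | add p q hp hq => rw [map_add, map_add, hp, hq, map_add, map_add]
    | mul_X p j hp =>
      rw [map_mul, map_mul, hp, map_mul, map_mul]
      congr 1
      simp only [T, φ, aeval_X, map_add, map_sum, map_mul, eval₂Hom_X', eval₂Hom_C, Sum.elim_inl,
        Sum.elim_inr, u, hsum]
      congr 1
      refine Finset.sum_congr rfl fun l _ => ?_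
      have h := ha (l, j)
      rw [Algebra.smul_def] at h
      change α l / ι (b : A) * ι (a (l, j)) = _
      rw [show ι (a (l, j)) = ι (b : A) * (B l : Fin N → K) j from h]
      exact (mul_assoc _ _ _).symm.trans (congrArg (· * _) (div_mul_cancel₀ (α l) hb0))
  have h0 : aeval u f = 0 := hι (by rw [← hφ, hTf, map_zero, ι.map_zero])
  have hχu : (fun j => χ (u j)) = w := by
    funext j
    have hσ0 : χ (σ (M d₀) j) = 0 := by
      conv_lhs => rw [pi_eq_sum_univ' (M d₀), map_sum, Finset.sum_apply, map_sum]
      refine Finset.sum_eq_zero fun i _ => ?_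
      rw [map_smul, Pi.smul_apply, smul_eq_mul, map_mul, hc i, zero_mul]
    change χ (d₀ j - σ (M d₀) j + _) = _
    rw [map_add, map_sub, hσ0, sub_zero, AlgHom.commutes, AlgHom.commutes]
    simp
  have h1 := congrArg χ h0
  rw [map_zero, ← AlgHom.comp_apply, comp_aeval, hχu] at h1
  exact h1

end Groth.PnSplit
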