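import Groth.Agent.PnSplit.AvoidAlg
import Groth.Agent.PnEuler.Tango
import Groth.Agent.PnEuler.RankTwoEnd

/-!
# Trivial subbundles of globally generated bundles on `ℙⁿ`
-/

set_option autoImplicit false

universe u

open CategoryTheory CategoryTheory.Limits AlgebraicGeometry Opposite TopologicalSpace
open Groth.PicAux Groth.LocFree Groth.PnEuler

noncomputable section

namespace Groth.PnSplit

variable {X : Scheme.{u}} {E : X.Modules}

/-- The map from a free module given by global sections. -/
theorem exists_hom_free {q : ℕ} (g : Fin q → Γ(E, ⊤)) : ∃ (b : Fin q → Γ(FlatMod.freeMod X q, ⊤))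
    (φ : FlatMod.freeMod X q ⟶ E), Basis' (FlatMod.freeMod X q) ⊤ b ∧ ∀ l, φ.app ⊤ (b l) = g l := by
  obtain ⟨d⟩ := exists_split_free (X := X) q
  refine ⟨fun l => (d.s l).app ⊤ (oneSec X ⊤), ∑ l, d.p l ≫ homOfSection (g l), d.basis, fun l => ?_⟩
  rw [sum_app, Finset.sum_eq_single l (fun l' _ h => ?_) (fun h => absurd (Finset.mem_univ _) h)]
  · change (d.s l ≫ d.p l ≫ homOfSection (g l)).app ⊤ (oneSec X ⊤) = _
    rw [← Category.assoc, d.diag, Category.id_comp, homOfSection_one]
  · change (d.s l ≫ d.p l' ≫ homOfSection (g l')).app ⊤ (oneSec X ⊤) = _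
    rw [← Category.assoc, d.off _ _ (Ne.symm h), zero_comp]
    rfl

/-- Multiplying a basis by an invertible matrix gives a basis. -/
theorem basis'_of_isUnit_det {U : X.Opens} {n : ℕ} {s t : Fin n → Γ(E, U)} (hs : Basis' E U s)
    (T : Matrix (Fin n) (Fin n) Γ(X, U)) (hT : IsUnit T.det) (ht : ∀ j, t j = ∑ i, T i j • s i) :
    Basis' E U t := by
  classical
  intro V hV
  let T' := T.map (resX X hV)
  have hT' : IsUnit T' := (Matrix.isUnit_iff_isUnit_det _).2 (by
    rw [show T'.det = (X.presheaf.map (homOfLE hV).op) T.det from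
      ((X.presheaf.map (homOfLE hV).op).hom.map_det T).symm]
    exact hT.map _)
  have h : (fun c : Fin n → Γ(X, V) => ∑ j, c j • res E hV (t j)) =
      (fun c : Fin n → Γ(X, V) => ∑ i, c i • res E hV (s i)) ∘ T'.mulVec := by
    funext c
    simp only [Function.comp, Matrix.mulVec, dotProduct, ht, res_sum, res_smul, Finset.smul_sum,
      Finset.sum_smul, smul_smul]
    rw [Finset.sum_comm]
    exact Finset.sum_congr rfl fun i _ => Finset.sum_congr rfl fun j _ => by
      rw [mul_comm]; rfl
  rw [h]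
  obtain ⟨T₁, hT₁⟩ := hT'
  refine (hs V hV).comp ((Equiv.mk (Matrix.mulVec T') (Matrix.mulVec ((↑T₁⁻¹ : Matrix _ _ _))) (fun v => ?_)
    (fun v => ?_)).bijective)
  · rw [Matrix.mulVec_mulVec, ← hT₁, Units.inv_mul, Matrix.one_mulVec]
  · rw [Matrix.mulVec_mulVec, ← hT₁, Units.mul_inv, Matrix.one_mulVec]

/-- A map from a free module that is part of a basis near every point has locally free cokernel. -/
theorem mono_and_cokernel {q n : ℕ} {b : Fin q → Γ(FlatMod.freeMod X q, ⊤)}
    (hb : Basis' (FlatMod.freeMod X q) ⊤ b) (hE : FlatMod.IsFinLocFree E)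
    (φ : FlatMod.freeMod X q ⟶ E)
    (h : ∀ x : X, ∃ (W : X.Opens) (t : Fin (q + n) → Γ(E, W)), IsAffineOpen W ∧ x ∈ W ∧ Basis' E W t ∧
      ∀ l, t (Fin.castAdd n l) = res E le_top (φ.app ⊤ (b l))) :
    Mono φ ∧ FlatMod.IsFinLocFreeOfRank n (cokernel φ) := by
  haveI := KTheory.LocFree.isQCoh hE
  haveI := KTheory.LocFree.isQCoh (isFinLocFree_freeMod X q)
  choose W t hW hxW ht hcast using h
  have happ : ∀ (x : X) (V : X.Opens) (hV : V ≤ W x) (c : Fin q → Γ(X, V)),
      φ.app V (∑ l, c l • res _ le_top (b l)) =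
        ∑ l, c l • res E hV (t x (Fin.castAdd n l)) := fun x V hV c => by
    rw [map_sum]
    refine Finset.sum_congr rfl fun l _ => ?_
    rw [Scheme.Modules.Hom.app_smul, app_res, hcast, res_res]
  have hinj : ∀ (x : X) (V : X.Opens) (hV : V ≤ W x) (c : Fin q → Γ(X, V)) (e : Fin n → Γ(X, V)),
      ∑ l, c l • res E hV (t x (Fin.castAdd n l)) = ∑ l, e l • res E hV (t x (Fin.natAdd q l)) →
      c = 0 ∧ e = 0 := fun x V hV c e he => by
    have h1 : Fin.append c (-e) = 0 := (ht x V hV).1 (by
      dsimp only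
      rw [Fin.sum_univ_add]
      simp only [Fin.append_left, Fin.append_right, Pi.neg_apply, neg_smul, Finset.sum_neg_distrib, he,
        Pi.zero_apply, zero_smul, Finset.sum_const_zero, add_neg_cancel])
    exact ⟨funext fun l => by simpa using congrFun h1 (Fin.castAdd n l),
      funext fun l => by simpa using congrFun h1 (Fin.natAdd q l)⟩
  have hmono : Mono φ := Groth.OmegaSheaf.mono_of_affine_cover _ fun x => by
    refine ⟨W x, hW x, hxW x, (injective_iff_map_eq_zero _).2 fun a ha => ?_⟩
    obtain ⟨c, hc⟩ := (hb (W x) le_top).2 a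
    dsimp only at hc
    subst hc
    rw [happ x (W x) le_rfl c] at ha
    rw [(hinj x _ le_rfl c 0 (by rw [ha]; simp)).1]
    simp
  refine ⟨hmono, ?_⟩
  haveI : (cokernel φ).IsQuasicoherent := Groth.QCohMod.isQCoh_cokernel φ
  haveI := hmono
  intro x
  let s : Fin n → Γ(cokernel φ, W x) := fun l => (cokernel.π φ).app (W x) (t x (Fin.natAdd q l))
  have hbij : Function.Bijective fun e : Fin n → Γ(X, W x) => ∑ l, e l • s l := by
    have hs : ∀ e : Fin n → Γ(X, W x), ∑ l, e l • s l =
        (cokernel.π φ).app (W x) (∑ l, e l • t x (Fin.natAdd q l)) := fun e => by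
      rw [map_sum]
      simp only [Scheme.Modules.Hom.app_smul, s]
    refine ⟨fun e e' he => ?_, fun z => ?_⟩
    · simp only [hs] at he
      have h0 : (cokernel.π φ).app (W x) (∑ l, (e l - e' l) • t x (Fin.natAdd q l)) = 0 := by
        simp only [sub_smul, Finset.sum_sub_distrib, map_sub, he, sub_self]
      obtain ⟨y, hy⟩ := Groth.QCohMod.exists_app_eq_of_mono_exact
        (S := ShortComplex.mk φ (cokernel.π φ) (cokernel.condition φ))
        (ShortComplex.exact_of_g_is_cokernel _ (cokernelIsCokernel φ)) (W x) _ h0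
      obtain ⟨c, rfl⟩ := (hb (W x) le_top).2 y
      change φ.app (W x) _ = _ at hy
      dsimp only at hy
      rw [happ x (W x) le_rfl c] at hy
      simp only [res_self] at hy
      have h2 := (hinj x _ le_rfl c (fun l => e l - e' l) (by simpa only [res_self] using hy)).2
      exact funext fun l => sub_eq_zero.1 (congrFun h2 l)
    · obtain ⟨w, rfl⟩ := Groth.QCohMod.app_surjective_of_epi (cokernel.π φ) (hW x) z
      obtain ⟨d, rfl⟩ := (ht x (W x) le_rfl).2 w
      refine ⟨fun l => d (Fin.natAdd q l), ?_⟩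
      have h0 : (cokernel.π φ).app (W x) (φ.app (W x)
          (∑ l, d (Fin.castAdd n l) • res _ le_top (b l))) = 0 := by
        change (φ ≫ cokernel.π φ).app (W x) _ = 0
        rw [cokernel.condition]
        rfl
      rw [happ x (W x) le_rfl] at h0
      simp only [res_self] at h0 ⊢
      rw [hs, Fin.sum_univ_add, map_add, h0, zero_add]
  obtain ⟨e⟩ := Groth.LocFree.nonempty_iso_of_basis
    (Groth.KTheory.LocFree.basis'_of_affine (hW x) s hbij)
  exact ⟨W x, hxW x, ⟨e⟩⟩

section Proj

variable {k : Type u} [Field k] {n : ℕ}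

local notation "P" => CohB1.ProjSpace n k

/-- Affine charts on which the functions are birational to affine space. -/
theorem exists_chart [IsIntegral (CohB1.ProjSpace n k)] {r : ℕ} {E : (CohB1.ProjSpace n k).Modules}
    (hE : FlatMod.IsFinLocFreeOfRank r E) (x : ↥(CohB1.ProjSpace n k)) :
    ∃ (V : (CohB1.ProjSpace n k).Opens) (s : Fin r → Γ(E, V))
      (π : MvPolynomial (Fin n) k →+* Γ(CohB1.ProjSpace n k, V)) (u : Γ(CohB1.ProjSpace n k, V)),
      IsAffineOpen V ∧ x ∈ V ∧ Basis' E V s ∧ (∀ c, π (MvPolynomial.C c) = scal V c) ∧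
      ∀ a, ∃ (p q : MvPolynomial (Fin n) k) (l : ℕ), π q ≠ 0 ∧ a * π q = π p ∧ a = π p * u ^ l := by
  obtain ⟨j, hj⟩ := exists_mem_dOp (R := k) (x : ProjectiveSpectrum (CohB1.polyGrading n k))
  obtain ⟨U, s, hxU, hs⟩ := isFinLocFreeOfRank_iff.1 hE x
  obtain ⟨a₀, ha₀, hxa⟩ := (isAffineOpen_dOp (R := k) j).exists_basicOpen_le ⟨x, hxU⟩ hj
  let V := (CohB1.ProjSpace n k).basicOpen a₀
  have hV : IsAffineOpen V := (isAffineOpen_dOp (R := k) j).basicOpen a₀
  have hVD : V ≤ dOp (R := k) j := (CohB1.ProjSpace n k).basicOpen_le a₀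
  haveI : Nonempty V := ⟨⟨x, hxa⟩⟩
  let ρ := ((CohB1.ProjSpace n k).presheaf.map (homOfLE hVD).op).hom
  let π : MvPolynomial (Fin n) k →+* Γ(CohB1.ProjSpace n k, V) :=
    MvPolynomial.eval₂Hom (scal V) fun p => ρ (tt (R := k) j (j.succAbove p))
  let g : Fin (n + 1) → MvPolynomial (Fin n) k :=
    Fin.insertNth (α := fun _ => MvPolynomial (Fin n) k) j 1 MvPolynomial.X
  have hg : π.comp (MvPolynomial.aeval g).toRingHom =
      ρ.comp (MvPolynomial.eval₂Hom (scal (dOp (R := k) j)) (tt (R := k) j)) := by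
    refine MvPolynomial.ringHom_ext (fun c => ?_) fun l => ?_
    · simp only [RingHom.coe_comp, AlgHom.toRingHom_eq_coe, RingHom.coe_coe, Function.comp_apply,
        MvPolynomial.aeval_C, MvPolynomial.algebraMap_eq, MvPolynomial.eval₂Hom_C, π]
      exact (res_scal hVD c).symm
    · simp only [RingHom.coe_comp, AlgHom.toRingHom_eq_coe, RingHom.coe_coe, Function.comp_apply,
        MvPolynomial.aeval_X, MvPolynomial.eval₂Hom_X', π]
      rcases Fin.eq_self_or_eq_succAbove j l with rfl | ⟨p, rfl⟩
      · simp [g, tt_self]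
      · simp [g]
  have hrng : ∀ b, ∃ p, π p = ρ b := fun b => by
    obtain ⟨p, rfl⟩ := exists_eval₂_eq (R := k) j b
    exact ⟨_, RingHom.congr_fun hg p⟩
  obtain ⟨q₀, hq₀⟩ := hrng a₀
  have hu : IsUnit (ρ a₀) :=
    RingedSpace.isUnit_res_basicOpen (CohB1.ProjSpace n k).toLocallyRingedSpace.toRingedSpace a₀
  refine ⟨V, fun i => res E ha₀ (s i), π, ↑hu.unit⁻¹, hV, hxa, hs.res' ha₀,
    fun c => by simp [π], fun a => ?_⟩
  haveI := (isAffineOpen_dOp (R := k) j).isLocalization_basicOpen a₀
  obtain ⟨⟨b, ⟨_, l, rfl⟩⟩, hb⟩ := IsLocalization.surj (Submonoid.powers a₀) a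
  obtain ⟨p, hp⟩ := hrng b
  have hb' : a * ρ a₀ ^ l = ρ b := by
    rw [← map_pow]
    exact hb
  refine ⟨p, q₀ ^ l, l, ?_, ?_, ?_⟩
  · rw [map_pow, hq₀]
    exact (hu.pow l).ne_zero
  · rw [map_pow, hq₀, hb', hp]
  · rw [hp, ← hb', mul_assoc, ← mul_pow, IsUnit.mul_val_inv, one_pow, mul_one]

/-- Trivial subbundles of globally generated bundles. -/
theorem exists_trivial_subbundle [IsAlgClosed k] [IsIntegral (CohB1.ProjSpace n k)] {q : ℕ}
    {E : (CohB1.ProjSpace n k).Modules} (hE : FlatMod.IsFinLocFreeOfRank (q + n) E) {N : ℕ}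
    (ψ : FlatMod.freeMod (CohB1.ProjSpace n k) N ⟶ E) [Epi ψ] :
    ∃ φ : FlatMod.freeMod (CohB1.ProjSpace n k) q ⟶ E,
      Mono φ ∧ FlatMod.IsFinLocFreeOfRank n (cokernel φ) := by
  classical
  haveI := KTheory.LocFree.isQCoh (isFinLocFree_of_rank hE)
  haveI := KTheory.LocFree.isQCoh (isFinLocFree_freeMod (CohB1.ProjSpace n k) N)
  choose V s π u hV hxV hs hπC hπ using exists_chart hE
  haveI hne : ∀ y, Nonempty (V y) := fun y => ⟨⟨y, hxV y⟩⟩
  haveI : CompactSpace ↥(CohB1.ProjSpace n k) := by
    refine ⟨?_⟩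
    rw [show (Set.univ : Set ↥(CohB1.ProjSpace n k)) =
        ⋃ j : Fin (n + 1), (dOp (R := k) j : Set ↥(CohB1.ProjSpace n k)) from
      (Set.eq_univ_of_forall fun x => Set.mem_iUnion.2
        (exists_mem_dOp (R := k) (x : ProjectiveSpectrum (CohB1.polyGrading n k)))).symm]
    exact isCompact_iUnion fun j => (isAffineOpen_dOp j).isCompact
  obtain ⟨S, hS⟩ := isCompact_univ.elim_finite_subcover (fun y => (V y : Set ↥(CohB1.ProjSpace n k)))
    (fun y => (V y).2) fun y _ => Set.mem_iUnion.2 ⟨y, hxV y⟩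
  obtain ⟨b, hb⟩ := exists_basis_freeMod (X := CohB1.ProjSpace n k) N
  letI alg : ∀ y, Algebra k Γ(CohB1.ProjSpace n k, V y) := fun y => (scal (V y)).toAlgebra
  have hπalg : ∀ y c, π y (MvPolynomial.C c) = algebraMap k Γ(CohB1.ProjSpace n k, V y) c := hπC
  let πA : ∀ y, MvPolynomial (Fin n) k →ₐ[k] Γ(CohB1.ProjSpace n k, V y) := fun y =>
    { π y with commutes' := hπalg y }
  -- coordinates of the generators
  let Mv : ∀ y, (Fin N → Γ(CohB1.ProjSpace n k, V y)) → (Fin (q + n) → Γ(CohB1.ProjSpace n k, V y)) :=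
    fun y d => (Groth.LocFree.basisOfBasis' (hs y) le_rfl).equivFun
      (ψ.app (V y) (∑ i, d i • res _ le_top (b i)))
  let M : ∀ y, (Fin N → Γ(CohB1.ProjSpace n k, V y)) →ₗ[Γ(CohB1.ProjSpace n k, V y)]
      (Fin (q + n) → Γ(CohB1.ProjSpace n k, V y)) := fun y =>
    { toFun := Mv y
      map_add' := fun d e => by
        simp only [Mv, Pi.add_apply, add_smul, Finset.sum_add_distrib, map_add]
      map_smul' := fun c d => by
        simp only [Mv, Pi.smul_apply, smul_eq_mul, mul_smul, ← Finset.smul_sum, RingHom.id_apply]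
        rw [Scheme.Modules.Hom.app_smul, map_smul] }
  have hMs : ∀ y, Function.Surjective (M y) := fun y z => by
    obtain ⟨w, hw⟩ := Groth.QCohMod.app_surjective_of_epi ψ (hV y)
      ((Groth.LocFree.basisOfBasis' (hs y) le_rfl).equivFun.symm z)
    obtain ⟨d, rfl⟩ := (hb (V y) le_top).2 w
    refine ⟨d, ?_⟩
    change (Groth.LocFree.basisOfBasis' (hs y) le_rfl).equivFun
      (ψ.app (V y) (∑ i, d i • res _ le_top (b i))) = z
    exact (congrArg (Groth.LocFree.basisOfBasis' (hs y) le_rfl).equivFun hw).trans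
      (LinearEquiv.apply_symm_apply _ z)
  haveI hdom : ∀ y, IsDomain Γ(CohB1.ProjSpace n k, V y) := fun y => IsIntegral.component_integral (V y)
  -- constant vectors with pointwise independent images
  have key : ∀ m ≤ q, ∃ v : Fin m → Fin N → k, ∀ y ∈ S, ∀ (χ : Γ(CohB1.ProjSpace n k, V y) →ₐ[k] k)
      (c : Fin m → k),
      (∀ i, χ (M y (fun j => algebraMap k _ (∑ l, c l * v l j)) i) = 0) → c = 0 := by
    intro m hm
    induction m with
    | zero => exact ⟨fun l => l.elim0, fun _ _ _ c _ => funext fun l => l.elim0⟩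
    | succ m ih =>
      obtain ⟨v, hv⟩ := ih (by omega)
      choose f hf hfv using fun y => exists_avoid (πA y)
        (fun a => let ⟨p, r, _, h1, h2, _⟩ := hπ y a; ⟨p, r, h1, h2⟩) (M y) (hMs y) v
        (show m + n < q + n by omega)
      obtain ⟨w, hw⟩ : ∃ w, MvPolynomial.eval w (∏ y ∈ S, f y) ≠ 0 := by
        by_contra! h
        exact Finset.prod_ne_zero_iff.2 (fun y _ => hf y)
          (MvPolynomial.funext fun w => by rw [h w, map_zero])
      rw [map_prod, Finset.prod_ne_zero_iff] at hw
      refine ⟨Fin.snoc v w, fun y hy χ c hc => ?_⟩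
      have hlast : c (Fin.last m) = 0 := by
        by_contra hne'
        refine hw y hy (hfv y χ w (fun l => - c l.castSucc / c (Fin.last m)) fun i => ?_)
        have he : (fun j => algebraMap k Γ(CohB1.ProjSpace n k, V y)
            (w j - ∑ l, - c (Fin.castSucc l) / c (Fin.last m) * v l j)) =
            algebraMap k Γ(CohB1.ProjSpace n k, V y) (c (Fin.last m))⁻¹ •
              fun j => algebraMap k Γ(CohB1.ProjSpace n k, V y) (∑ l, c l * (Fin.snoc v w : Fin (m + 1) → _) l j) := by
          funext j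
          rw [Pi.smul_apply, smul_eq_mul, ← map_mul, Fin.sum_univ_castSucc]
          congr 1
          simp only [Fin.snoc_castSucc, Fin.snoc_last]
          rw [mul_add, ← mul_assoc, inv_mul_cancel₀ hne', one_mul, Finset.mul_sum, sub_eq_add_neg,
            ← Finset.sum_neg_distrib, add_comm]
          congr 1
          refine Finset.sum_congr rfl fun l _ => ?_
          field_simp
          try ring
        rw [he, map_smul, Pi.smul_apply, smul_eq_mul, map_mul, hc i, mul_zero]
      have h0 := hv y hy χ (fun l => c l.castSucc) fun i => by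
        have h := hc i
        simp only [Fin.sum_univ_castSucc, Fin.snoc_castSucc, Fin.snoc_last, hlast, zero_mul,
          add_zero] at h
        exact h
      funext l
      induction l using Fin.lastCases with
      | last => exact hlast
      | cast l => exact congrFun h0 l
  obtain ⟨v, hv⟩ := key q le_rfl
  let g : Fin q → Γ(E, ⊤) := fun l => ψ.app ⊤ (∑ j, scal (n := n) (R := k) ⊤ (v l j) • b j)
  obtain ⟨b', φ, hb', hφ⟩ := exists_hom_free g
  refine ⟨φ, mono_and_cokernel hb' (isFinLocFree_of_rank hE) φ fun x => ?_⟩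
  obtain ⟨y, hy, hxy⟩ := Set.mem_iUnion₂.1 (hS (Set.mem_univ x))
  let A := Γ(CohB1.ProjSpace n k, V y)
  let B := Groth.LocFree.basisOfBasis' (hs y) (le_refl (V y))
  have hg : ∀ l, res E (le_top : V y ≤ ⊤) (g l) =
      ∑ i, M y (fun j => algebraMap k A (v l j)) i • B i := fun l => by
    have h1 : res E (le_top : V y ≤ ⊤) (g l) =
        ψ.app (V y) (∑ j, algebraMap k A (v l j) • res _ le_top (b j)) := by
      simp only [g]
      rw [← app_res, res_sum]
      refine congrArg _ (Finset.sum_congr rfl fun j _ => ?_)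
      rw [res_smul]
      exact congrArg (· • _) (res_scal le_top (v l j))
    rw [h1]
    exact (B.sum_repr _).symm.trans (Finset.sum_congr rfl fun i _ => rfl)
  -- the candidate completions
  let T : (Fin n → Fin (q + n) → k) → Matrix (Fin (q + n)) (Fin (q + n)) A := fun w =>
    Matrix.of fun i l => Fin.append (fun l i => M y (fun j => algebraMap k A (v l j)) i)
      (fun l i => algebraMap k A (w l i)) l i
  have hspan : Ideal.span (Set.range fun w => (T w).det) = ⊤ := by
    by_contra hne'
    obtain ⟨p, hp, hle⟩ := Ideal.exists_le_maximal _ hne'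
    letI : Field (A ⧸ p) := Ideal.Quotient.field p
    -- the residue field is `k`
    let Φ : MvPolynomial (Option (Fin n)) k →ₐ[k] A ⧸ p := MvPolynomial.aeval fun o =>
      Ideal.Quotient.mk p (o.elim (u y) fun i => π y (MvPolynomial.X i))
    have hΦ : Function.Surjective Φ := fun z => by
      obtain ⟨a, rfl⟩ := Ideal.Quotient.mk_surjective z
      obtain ⟨p', -, l, -, -, ha⟩ := hπ y a
      refine ⟨MvPolynomial.rename some p' * MvPolynomial.X none ^ l, ?_⟩
      rw [map_mul, map_pow, MvPolynomial.aeval_rename, MvPolynomial.aeval_X, ha, map_mul, map_pow]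
      congr 1
      change _ = ((Ideal.Quotient.mkₐ k p).comp (πA y)) p'
      refine congrFun (congrArg DFunLike.coe (MvPolynomial.algHom_ext fun i => ?_)) p'
      simp [πA]
    haveI : Algebra.FiniteType k (A ⧸ p) :=
      Algebra.FiniteType.of_surjective (f := Φ) hΦ
    haveI : Module.Finite k (A ⧸ p) := finite_of_finite_type_of_isJacobsonRing k (A ⧸ p)
    let e : k ≃ₐ[k] A ⧸ p := AlgEquiv.ofBijective (Algebra.ofId k (A ⧸ p))
      IsAlgClosed.algebraMap_bijective_of_isIntegral
    let χ : A →ₐ[k] k := e.symm.toAlgHom.comp (Ideal.Quotient.mkₐ k p)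
    let col : Fin q → Fin (q + n) → k := fun l i => χ (M y (fun j => algebraMap k A (v l j)) i)
    have hcol : LinearIndependent k col := by
      rw [Fintype.linearIndependent_iff]
      intro c hc
      refine congrFun (hv y hy χ c fun i => ?_)
      have he : (fun j => algebraMap k A (∑ l, c l * v l j)) =
          ∑ l, algebraMap k A (c l) • fun j => algebraMap k A (v l j) := by
        funext j
        rw [Finset.sum_apply, map_sum]
        simp only [map_mul, Pi.smul_apply, smul_eq_mul]
      rw [he, map_sum, Finset.sum_apply, map_sum]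
      simp only [map_smul, Pi.smul_apply, smul_eq_mul, map_mul, AlgHom.commutes, Algebra.algebraMap_self,
        RingHom.id_apply]
      simp only [show ∀ a, χ (algebraMap k A a) = a from χ.commutes]
      simpa [col, Finset.sum_apply] using congrFun hc i
    let W := Submodule.span k (Set.range col)
    have hWd : Module.finrank k ((Fin (q + n) → k) ⧸ W) = n := by
      have h1 := W.finrank_quotient_add_finrank
      rw [finrank_span_eq_card hcol, Module.finrank_fin_fun, Fintype.card_fin] at h1
      omega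
    let bQ := Module.finBasisOfFinrankEq k _ hWd
    choose w hw using fun l => Submodule.Quotient.mk_surjective W (bQ l)
    have hind : LinearIndependent k (Fin.append col w) := by
      rw [Fintype.linearIndependent_iff]
      intro c hc
      rw [Fin.sum_univ_add] at hc
      simp only [Fin.append_left, Fin.append_right] at hc
      have h1 := congrArg W.mkQ hc
      rw [map_add, map_sum, map_sum] at h1
      simp only [map_smul, Submodule.mkQ_apply, hw] at h1
      rw [Finset.sum_eq_zero fun l _ => ?_, zero_add, Submodule.Quotient.mk_zero] at h1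
      · have h2 := Fintype.linearIndependent_iff.1 bQ.linearIndependent _ h1
        simp only [h2, zero_smul, Finset.sum_const_zero, add_zero] at hc
        exact fun l => Fin.addCases (Fintype.linearIndependent_iff.1 hcol _ hc) h2 l
      · rw [(Submodule.Quotient.mk_eq_zero W).2 (Submodule.subset_span ⟨l, rfl⟩), smul_zero]
    have hmem : χ (T w).det = 0 := by
      have h1 : (T w).det ∈ p := hle (Ideal.subset_span ⟨w, rfl⟩)
      simp only [χ, AlgHom.coe_comp, Function.comp_apply, Ideal.Quotient.mkₐ_eq_mk,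
        Ideal.Quotient.eq_zero_iff_mem.2 h1, map_zero]
    have hdet : (χ.toRingHom.mapMatrix (T w)).det ≠ 0 := by
      refine IsUnit.ne_zero ((Matrix.isUnit_iff_isUnit_det _).1
        (Matrix.linearIndependent_cols_iff_isUnit.1 ?_))
      convert hind using 1
      funext l i
      refine Fin.addCases (fun l' => ?_) (fun l' => ?_) l <;> simp [T, col, Matrix.col]
    exact hdet ((χ.toRingHom.map_det (T w)).symm.trans hmem)
  obtain ⟨w, hxw⟩ : ∃ w, x ∈ (CohB1.ProjSpace n k).basicOpen (T w).det := by
    have h1 := iSup_basicOpen_of_span_eq_top (V y) _ hspan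
    rw [← h1] at hxy
    simpa using hxy
  let W := (CohB1.ProjSpace n k).basicOpen (T w).det
  have hWV : W ≤ V y := (CohB1.ProjSpace n k).basicOpen_le _
  let t : Fin (q + n) → Γ(E, W) :=
    Fin.append (fun l => res E le_top (φ.app ⊤ (b' l)))
      fun l => res E hWV (∑ i, algebraMap k A (w l i) • B i)
  have hBs : Basis' E W (fun i => res E hWV (B i)) := by
    have h : ∀ i, B i = s y i := fun i => by simp [B, basisOfBasis', res_self]
    simpa only [h] using (hs y).res' hWV
  refine ⟨W, t, (hV y).basicOpen _, hxw, basis'_of_isUnit_det hBs ((T w).map (resX _ hWV)) ?_ fun l => ?_,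
    fun l => by simp [t]⟩
  · rw [show ((T w).map (resX _ hWV)).det =
        ((CohB1.ProjSpace n k).presheaf.map (homOfLE hWV).op) (T w).det from
      (((CohB1.ProjSpace n k).presheaf.map (homOfLE hWV).op).hom.map_det (T w)).symm]
    exact RingedSpace.isUnit_res_basicOpen (CohB1.ProjSpace n k).toLocallyRingedSpace.toRingedSpace _
  · refine Fin.addCases (fun l' => ?_) (fun l' => ?_) l
    · simp only [t, Fin.append_left, Matrix.map_apply, T, Matrix.of_apply]
      rw [hφ, ← res_res (le_top : V y ≤ ⊤) hWV, hg, res_sum]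
      exact Finset.sum_congr rfl fun i _ => res_smul _ _ _
    · simp only [t, Fin.append_right, Matrix.map_apply, T, Matrix.of_apply, res_sum, res_smul]
      exact Finset.sum_congr rfl fun i _ => res_smul _ _ _

end Proj

end Groth.PnSplit
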